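import Groth.Agent.ZBPushBlow.Alg
import Groth.Agent.FlatX.RelCartier
import Groth.Agent.ModPairLib.Quot

/-!
# Pinching along a Cartier divisor is the blow-up in the pinched subscheme
-/

set_option autoImplicit false
universe u

open CategoryTheory CategoryTheory.Limits AlgebraicGeometry

namespace Groth.Agent.ZBPushBlow

variable {Xt Dt D X : Scheme.{u}} {ι : Dt ⟶ Xt} [IsClosedImmersion ι] {h : Dt ⟶ D}
  {b : Xt ⟶ X} [IsAffineHom b] {j : D ⟶ X} [IsClosedImmersion j] (hP : IsPushout ι h b j)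

include hP in
theorem exists_chart_mem (y : D) : ∃ c : RingPO.Chart ι h, y ∈ c.V := by
  obtain ⟨U, hU, hyU, -⟩ := exists_isAffineOpen_mem_and_subset (X := X) (x := j y) (U := ⊤) trivial
  exact ⟨RingPO.chartOver hP hU, hyU⟩

theorem appLE_injective_of_flat_surjective {Y Z : Scheme.{u}} (f : Y ⟶ Z) [IsAffineHom f] [Flat f]
    [Surjective f] {V : Z.Opens} (hV : IsAffineOpen V) {V' : Y.Opens} (e : V' = f ⁻¹ᵁ V) :
    Function.Injective (f.appLE V V' e.le).hom := by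
  subst e
  refine RingHom.FaithfullyFlat.injective ?_
  rw [RingHom.FaithfullyFlat.iff_flat_and_comap_surjective]
  refine ⟨HasRingHomProperty.appLE @Flat f inferInstance ⟨V, hV⟩ ⟨_, hV.preimage f⟩ le_rfl, ?_⟩
  have : Surjective (Spec.map (f.appLE V (f ⁻¹ᵁ V) le_rfl)) :=
    MorphismProperty.of_isPullback (P := @Surjective) (RingPO.isPullback_fromSpec f hV) inferInstance
  exact this.surj

theorem ker_ideal_eq {Z : Scheme.{u}} {i : Dt ⟶ Z} [IsClosedImmersion i] (U : Z.affineOpens) :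
    i.ker.ideal U = RingHom.ker (i.appLE U.1 (i ⁻¹ᵁ U.1) le_rfl).hom := by
  rw [Scheme.Hom.ker_apply, Scheme.Hom.app_eq_appLE]

variable [IsFinite h] [Flat h] [Surjective h]

include hP in
/-- The local data over an affine open. -/
theorem local_data (U : X.affineOpens) :
    RingPO.IsFibreProd (RingPO.chartOver hP U.2).p (RingPO.chartOver hP U.2).q
        (b.appLE U.1 (b ⁻¹ᵁ U.1) le_rfl).hom (j.appLE U.1 (j ⁻¹ᵁ U.1) le_rfl).hom ∧
      Function.Injective (RingPO.chartOver hP U.2).q ∧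
      ι.ker.ideal ⟨b ⁻¹ᵁ U.1, U.2.preimage b⟩ = RingHom.ker (RingPO.chartOver hP U.2).p ∧
      j.ker.ideal U = RingHom.ker (j.appLE U.1 (j ⁻¹ᵁ U.1) le_rfl).hom :=
  ⟨RingPO.isFibreProd_of_affineOpen hP (exists_chart_mem hP) U.2,
    appLE_injective_of_flat_surjective h (U.2.preimage j) (RingPO.chartOver hP U.2).eq,
    ker_ideal_eq ⟨b ⁻¹ᵁ U.1, U.2.preimage b⟩,
    by rw [Scheme.Hom.ker_apply, Scheme.Hom.app_eq_appLE]⟩

include hP in
theorem comap_ker_eq : j.ker.comap b = ι.ker := by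
  refine Scheme.IdealSheafData.ext_of_iSup_eq_top
    (fun U : X.affineOpens => (⟨b ⁻¹ᵁ U.1, U.2.preimage b⟩ : Xt.affineOpens)) ?_ fun U => ?_
  · show ⨆ U : X.affineOpens, b ⁻¹ᵁ U.1 = ⊤
    rw [← Scheme.Hom.preimage_iSup, iSup_affineOpens_eq_top, Scheme.Hom.preimage_top]
  · obtain ⟨hF, hq, h1, h2⟩ := local_data hP U
    rw [ModPairLib.ideal_comap _ b U ⟨b ⁻¹ᵁ U.1, U.2.preimage b⟩ le_rfl, h1, h2]
    exact map_ker hF hq

include hP in
theorem isBlowUp_pinch (hι : BlowUp.IsEffCartierIdeal ι.ker) : BlowUp.IsBlowUp b j.ker := by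
  refine BlowUpLib.isBlowUp_of_local (ι := X.affineOpens)
    (fun U : X.affineOpens => U.2.fromSpec) (fun x => ?_)
    (fun U => Spec.map (b.appLE U.1 (b ⁻¹ᵁ U.1) le_rfl))
    (fun U => (U.2.preimage b).fromSpec) (fun U => (RingPO.isPullback_fromSpec b U.2).flip) fun U => ?_
  · obtain ⟨U, hU, hxU, -⟩ := exists_isAffineOpen_mem_and_subset (X := X) (x := x) (U := ⊤) trivial
    obtain ⟨v, hv⟩ := hU.range_fromSpec.ge hxU
    exact ⟨⟨U, hU⟩, v, hv⟩
  · obtain ⟨hF, hq, h1, h2⟩ := local_data hP U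
    rw [BlowUpLib.comap_fromSpec]
    refine isBlowUp_affine (b.appLE U.1 (b ⁻¹ᵁ U.1) le_rfl).hom (j.ker.ideal U) ?_
      (alpha_injective hF hq) ?_
    · rw [h2]; exact mul_stable hF hq
    · have hmap : (j.ker.ideal U).map (b.appLE U.1 (b ⁻¹ᵁ U.1) le_rfl).hom =
          ι.ker.ideal ⟨b ⁻¹ᵁ U.1, U.2.preimage b⟩ := by
        rw [h1, h2]; exact map_ker hF hq
      rw [hmap, ← BlowUpLib.comap_fromSpec]
      exact BlowUpLib.isEffCartier_comap_flat _ hι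

variable {S : Scheme.{u}} (sX : X ⟶ S)

omit [IsAffineHom b] in
theorem flat_pow (hι : BlowUp.IsEffCartierIdeal ι.ker) [Flat (ι ≫ b ≫ sX)] :
    ∀ n : ℕ, BlowUp.IsEffCartierIdeal (ι.ker ^ (n + 1)) ∧
      Flat ((ι.ker ^ (n + 1)).subschemeι ≫ b ≫ sX)
  | 0 => by
    rw [pow_one]
    refine ⟨hι, ?_⟩
    have : IsIso ι.toImage := inferInstance
    have e : ι.ker.subschemeι = inv ι.toImage ≫ ι := by
      rw [IsIso.eq_inv_comp]; exact ι.toImage_imageι
    rw [e, Category.assoc]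
    infer_instance
  | n + 1 => by
    rw [pow_succ]
    obtain ⟨h1, h2⟩ := flat_pow hι n
    refine FlatX.flat_mul (b ≫ sX) h1 hι h2 ?_
    have := (flat_pow hι 0).2
    rwa [pow_one] at this

include hP in
theorem flat_thickenings (hι : BlowUp.IsEffCartierIdeal ι.ker) [Flat (j ≫ sX)]
    [Flat (ι ≫ b ≫ sX)] (n : ℕ) : Flat ((j.ker ^ (n + 1)).subschemeι ≫ sX) := by
  refine FlatX.flat_subscheme_of_charts sX _ fun x => ?_
  obtain ⟨W, hxW⟩ := FlatX.exists_chart sX x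
  obtain ⟨U', hU, hxU, hUW⟩ := exists_isAffineOpen_mem_and_subset (X := X) (x := x)
    (U := sX ⁻¹ᵁ W.1) hxW
  refine ⟨W, ⟨U', hU⟩, hUW, hxU, ?_⟩
  obtain ⟨hF, hq, h1, h2⟩ := local_data hP ⟨U', hU⟩
  have hC : ((j.appLE U' (j ⁻¹ᵁ U') le_rfl).hom.comp (sX.appLE W.1 U' hUW).hom).Flat := by
    rw [← CommRingCat.hom_comp, Scheme.Hom.appLE_comp_appLE]
    exact HasRingHomProperty.appLE @Flat _ inferInstance W ⟨_, hU.preimage j⟩ _
  have hcomp : (b.appLE U' (b ⁻¹ᵁ U') le_rfl).hom.comp (sX.appLE W.1 U' hUW).hom =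
      ((b ≫ sX).appLE W.1 (b ⁻¹ᵁ U') (fun _ hy => hUW hy)).hom := by
    rw [← CommRingCat.hom_comp, Scheme.Hom.appLE_comp_appLE]
  have hk : ∀ m : ℕ, (((Ideal.Quotient.mk (RingHom.ker (RingPO.chartOver hP hU).p ^ (m + 1))).comp
      ((b.appLE U' (b ⁻¹ᵁ U') le_rfl).hom.comp (sX.appLE W.1 U' hUW).hom))).Flat := fun m => by
    rw [hcomp]
    refine FlatX.flat_congr _ ?_ (FlatX.flat_quotApp (b ≫ sX) _ (flat_pow sX hι m).2 W
      ⟨b ⁻¹ᵁ U', hU.preimage b⟩ fun _ hy => hUW hy)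
    rw [Scheme.IdealSheafData.ideal_pow, Pi.pow_apply, h1]
    rfl
  have hk0 := FlatX.flat_congr _ (pow_one (RingHom.ker (RingPO.chartOver hP hU).p)) (hk 0)
  refine FlatX.flat_congr _ ?_ (flat_thickening hF hq (sX.appLE W.1 U' hUW).hom hC hk0 n (hk n))
  rw [Scheme.IdealSheafData.ideal_pow, Pi.pow_apply, h2]
  rfl

end Groth.Agent.ZBPushBlow
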