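import Groth.Agent.BlowUpLib.Glue
import Groth.Agent.CIntLib.BlowExc
import Groth.Agent.CIntLib.BlowFlatAlg
import Groth.Agent.GrFlat5.AtPrime
import Groth.Agent.RingPO.BaseChange

/-!
# Pinching along a Cartier divisor: the affine case
-/

set_option autoImplicit false
universe u

open CategoryTheory CategoryTheory.Limits AlgebraicGeometry

namespace Groth.Agent.ZBPushBlow

/-- A ring map with the universal property of a blow-up on principal nonzerodivisor pieces. -/
theorem exists_unique_ext {A B R : Type u} [CommRing A] [CommRing B] [CommRing R] (α : A →+* B)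
    (I : Ideal A) (hmul : ∀ (x : B) (z : A), z ∈ I → ∃ w ∈ I, α w = x * α z)
    (hinj : Function.Injective α) (χ : A →+* R) {e : R} (he : e ∈ nonZeroDivisors R)
    (hI : I.map χ = Ideal.span {e}) : ∃! ψ : B →+* R, ψ.comp α = χ := by
  classical
  choose w hw hwα using hmul
  -- the value at `x` is determined against every element of the ideal
  have hcancel : ∀ s t : R, (∀ z ∈ I, s * χ z = t * χ z) → s = t := fun s t h => by
    have hle : I.map χ ≤ LinearMap.ker (LinearMap.mulLeft R (s - t)) := by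
      rw [Ideal.map_le_iff_le_comap]
      intro z hz
      show (s - t) * χ z = 0
      rw [sub_mul, h z hz, sub_self]
    have h1 : (s - t) * e = 0 := hle (hI ▸ Ideal.mem_span_singleton_self e)
    exact sub_eq_zero.mp (mem_nonZeroDivisors_iff_right.mp he _ h1)
  have hex : ∀ x : B, ∃ s : R, ∀ z (hz : z ∈ I), s * χ z = χ (w x z hz) := by
    intro x
    have hmem : ∀ (y : R), y ∈ I.map χ → ∃ s : R, ∀ z (hz : z ∈ I), s * χ z = y * χ (w x z hz) := by
      intro y hy
      induction hy using Submodule.span_induction with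
      | mem y hy =>
        obtain ⟨z₀, hz₀, rfl⟩ := hy
        refine ⟨χ (w x z₀ hz₀), fun z hz => ?_⟩
        rw [← map_mul, ← map_mul]
        refine congrArg χ (hinj ?_)
        rw [map_mul, map_mul, hwα, hwα]
        ring
      | zero => exact ⟨0, fun z hz => by simp⟩
      | add a b _ _ ha hb =>
        obtain ⟨s, hs⟩ := ha
        obtain ⟨t, ht⟩ := hb
        exact ⟨s + t, fun z hz => by rw [add_mul, hs z hz, ht z hz, add_mul]⟩
      | smul r a _ ha =>
        obtain ⟨s, hs⟩ := ha
        exact ⟨r * s, fun z hz => by rw [mul_assoc, hs z hz, smul_eq_mul, mul_assoc]⟩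
    obtain ⟨s, hs⟩ := hmem e (hI ▸ Ideal.mem_span_singleton_self e)
    have hdiv : ∀ z (hz : z ∈ I), ∃ v, χ z = v * e := fun z hz => by
      obtain ⟨v, hv⟩ := Ideal.mem_span_singleton'.mp (hI ▸ Ideal.mem_map_of_mem χ hz)
      exact ⟨v, hv.symm⟩
    -- `s` is divisible by `e`
    have hse : s ∈ Ideal.span {e} := by
      have hsI : ∀ (y : R), y ∈ I.map χ → ∀ t : R,
          (∀ z (hz : z ∈ I), t * χ z = y * χ (w x z hz)) → t ∈ Ideal.span {e} := by
        intro y hy
        induction hy using Submodule.span_induction with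
        | mem y hy =>
          obtain ⟨z₀, hz₀, rfl⟩ := hy
          intro t ht
          have : t = χ (w x z₀ hz₀) := hcancel _ _ fun z hz => by
            rw [ht z hz, ← map_mul, ← map_mul]
            refine congrArg χ (hinj ?_)
            rw [map_mul, map_mul, hwα, hwα]
            ring
          rw [this, ← hI]
          exact Ideal.mem_map_of_mem χ (hw _ _ _)
        | zero =>
          intro t ht
          have : t = 0 := hcancel _ _ fun z hz => by rw [ht z hz, zero_mul, zero_mul]
          rw [this]; exact zero_mem _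
        | add a b ha' hb' ha hb =>
          intro t ht
          obtain ⟨sa, hsa⟩ := hmem a ha'
          obtain ⟨sb, hsb⟩ := hmem b hb'
          have : t = sa + sb := hcancel _ _ fun z hz => by
            rw [ht z hz, add_mul, add_mul, hsa z hz, hsb z hz]
          rw [this]; exact add_mem (ha sa hsa) (hb sb hsb)
        | smul r a ha' ha =>
          intro t ht
          obtain ⟨sa, hsa⟩ := hmem a ha'
          have : t = r * sa := hcancel _ _ fun z hz => by
            rw [ht z hz, smul_eq_mul, mul_assoc, mul_assoc, hsa z hz]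
          rw [this]; exact Ideal.mul_mem_left _ _ (ha sa hsa)
      exact hsI e (hI ▸ Ideal.mem_span_singleton_self e) s hs
    obtain ⟨v, hv⟩ := Ideal.mem_span_singleton'.mp hse
    refine ⟨v, fun z hz => ?_⟩
    have := hs z hz
    rw [← hv, mul_right_comm, mul_comm e] at this
    exact mem_nonZeroDivisors_iff_right.mp he |> fun h => sub_eq_zero.mp (h _ (by
      rw [sub_mul, this, sub_self]))
  choose ψ hψ using hex
  have hu : ∀ x (s : R), (∀ z (hz : z ∈ I), s * χ z = χ (w x z hz)) → ψ x = s := fun x s h =>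
    hcancel _ _ fun z hz => by rw [hψ x z hz, h z hz]
  refine ⟨{ toFun := ψ, map_one' := ?_, map_mul' := ?_, map_zero' := ?_, map_add' := ?_ }, ?_, ?_⟩
  · refine hu _ _ fun z hz => ?_
    rw [one_mul]
    exact congrArg χ (hinj (by rw [hwα, one_mul]))
  · intro x y
    refine hu _ _ fun z hz => ?_
    rw [mul_assoc, hψ y z hz, hψ x (w y z hz) (hw _ _ _)]
    exact congrArg χ (hinj (by rw [hwα, hwα, hwα, mul_assoc]))
  · refine hu _ _ fun z hz => ?_
    rw [zero_mul, ← map_zero χ]
    exact congrArg χ (hinj (by rw [hwα, zero_mul, map_zero]))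
  · intro x y
    refine hu _ _ fun z hz => ?_
    rw [add_mul, hψ x z hz, hψ y z hz, ← map_add]
    exact congrArg χ (hinj (by rw [map_add, hwα, hwα, hwα, add_mul]))
  · ext a
    refine hu _ _ fun z hz => ?_
    rw [← map_mul]
    exact congrArg χ (hinj (by rw [hwα, map_mul]))
  · intro ψ' hψ'
    ext x
    refine (hu x _ fun z hz => ?_).symm
    rw [← hψ', RingHom.comp_apply, RingHom.comp_apply, hwα, map_mul]

/-- Pinching is the blow-up, affine case. -/
theorem isBlowUp_affine {A B : Type u} [CommRing A] [CommRing B] (α : A →+* B) (I : Ideal A)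
    (hmul : ∀ (x : B) (z : A), z ∈ I → ∃ w ∈ I, α w = x * α z) (hinj : Function.Injective α)
    (hcar : BlowUp.IsEffCartierIdeal (BlowUpLib.centre (I.map α))) :
    BlowUp.IsBlowUp (Spec.map (CommRingCat.ofHom α)) (BlowUpLib.centre I) := by
  refine ⟨by rw [CIntLib.centre_comap_specMap]; exact hcar, fun Z g hg => ?_⟩
  choose W hxW e he hWe using hg
  have hχ : ∀ x, I.map (BlowUpLib.strHom g (W x).1) = Ideal.span {e x} := fun x => by
    rw [← BlowUpLib.ideal_comap_centre]; exact hWe x
  choose ψ hψ hψu using fun x => exists_unique_ext α I hmul hinj _ (he x) (hχ x)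
  dsimp only at hψ hψu
  have hl : ∀ x, Spec.map (CommRingCat.ofHom (ψ x)) ≫ Spec.map (CommRingCat.ofHom α) =
      (W x).2.fromSpec ≫ g := fun x => by
    rw [← Spec.map_comp, ← CommRingCat.ofHom_comp, hψ, BlowUpLib.SpecMap_strHom]
  -- two lifts over a Cartier pull back agree
  have huniq : ∀ {Z' : Scheme.{u}} (g' : Z' ⟶ Spec (CommRingCat.of A)),
      BlowUp.IsEffCartierIdeal ((BlowUpLib.centre I).comap g') →
      ∀ h h' : Z' ⟶ Spec (CommRingCat.of B), h ≫ Spec.map (CommRingCat.ofHom α) = g' →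
        h' ≫ Spec.map (CommRingCat.ofHom α) = g' → h = h' := by
    intro Z' g' hg' h h' hh hh'
    choose V hxV f hf hVf using hg'
    let 𝒱 : Z'.OpenCover :=
      { I₀ := Z'
        X := fun x => Spec (CommRingCat.of Γ(Z', (V x).1))
        f := fun x => (V x).2.fromSpec
        mem₀ := by
          rw [Scheme.presieve₀_mem_precoverage_iff]
          exact ⟨fun x => ⟨x, (V x).2.range_fromSpec.ge (hxV x)⟩, fun _ => inferInstance⟩ }
    refine 𝒱.hom_ext _ _ fun x => ?_
    obtain ⟨a, ha⟩ := Spec.map_surjective ((V x).2.fromSpec ≫ h)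
    obtain ⟨a', ha'⟩ := Spec.map_surjective ((V x).2.fromSpec ≫ h')
    have key : ∀ (c : CommRingCat.of B ⟶ CommRingCat.of Γ(Z', (V x).1)) (k : Z' ⟶ _),
        Spec.map c = (V x).2.fromSpec ≫ k → k ≫ Spec.map (CommRingCat.ofHom α) = g' →
          c.hom.comp α = BlowUpLib.strHom g' (V x).1 := fun c k hc hk => by
      have : Spec.map (CommRingCat.ofHom (c.hom.comp α)) =
          Spec.map (CommRingCat.ofHom (BlowUpLib.strHom g' (V x).1)) := by
        rw [BlowUpLib.SpecMap_strHom, ← hk, ← Category.assoc, ← hc, ← Spec.map_comp]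
        rfl
      exact congrArg CommRingCat.Hom.hom (Spec.map_injective this)
    have hχ' : I.map (BlowUpLib.strHom g' (V x).1) = Ideal.span {f x} := by
      rw [← BlowUpLib.ideal_comap_centre]; exact hVf x
    show (V x).2.fromSpec ≫ h = (V x).2.fromSpec ≫ h'
    rw [← ha, ← ha']
    congr 1
    exact CommRingCat.hom_ext ((exists_unique_ext α I hmul hinj _ (hf x) hχ').unique
      (key a h ha hh) (key a' h' ha' hh'))
  let 𝒰 : Z.OpenCover :=
    { I₀ := Z
      X := fun x => Spec (CommRingCat.of Γ(Z, (W x).1))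
      f := fun x => (W x).2.fromSpec
      mem₀ := by
        rw [Scheme.presieve₀_mem_precoverage_iff]
        exact ⟨fun x => ⟨x, (W x).2.range_fromSpec.ge (hxW x)⟩, fun _ => inferInstance⟩ }
  have hgc : BlowUp.IsEffCartierIdeal ((BlowUpLib.centre I).comap g) := fun x =>
    ⟨W x, hxW x, e x, he x, hWe x⟩
  have hcomp : ∀ x y, pullback.fst (𝒰.f x) (𝒰.f y) ≫ Spec.map (CommRingCat.ofHom (ψ x)) =
      pullback.snd (𝒰.f x) (𝒰.f y) ≫ Spec.map (CommRingCat.ofHom (ψ y)) := fun x y => by
    haveI : IsOpenImmersion (𝒰.f x) := inferInstanceAs (IsOpenImmersion (W x).2.fromSpec)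
    haveI : IsOpenImmersion (𝒰.f y) := inferInstanceAs (IsOpenImmersion (W y).2.fromSpec)
    refine huniq (pullback.fst (𝒰.f x) (𝒰.f y) ≫ 𝒰.f x ≫ g) ?_ _ _ ?_ ?_
    · rw [← Category.assoc, Scheme.IdealSheafData.comap_comp]
      exact BlowUpLib.isEffCartier_comap_flat _ hgc
    · rw [Category.assoc, hl]
    · rw [Category.assoc, hl, ← Category.assoc, ← Category.assoc]
      exact congrArg (· ≫ g) pullback.condition.symm
  have hh : 𝒰.glueMorphisms _ hcomp ≫ Spec.map (CommRingCat.ofHom α) = g :=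
    𝒰.hom_ext _ _ fun x => by rw [𝒰.ι_glueMorphisms_assoc]; exact hl x
  exact ⟨_, hh, fun h' hh' => huniq g hgc _ _ hh' hh⟩

variable {A B C D : Type u} [CommRing A] [CommRing B] [CommRing C] [CommRing D]
  {p : B →+* D} {q : C →+* D} {α : A →+* B} {β : A →+* C}
  (h : RingPO.IsFibreProd p q α β) (hq : Function.Injective q)

include h hq

theorem alpha_injective : Function.Injective α := fun z z' hz => h.ext z z' hz (hq (by
  rw [← h.comm, ← h.comm, hz]))

theorem exists_preimage_of_mem_ker {k : B} (hk : k ∈ RingHom.ker p) :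
    ∃ z ∈ RingHom.ker β, α z = k := by
  obtain ⟨z, hz, hz'⟩ := h.exists_of_eq 0 k (by rw [hk, map_zero])
  exact ⟨z, hz', hz⟩

omit hq in
theorem alpha_mem_ker {z : A} (hz : z ∈ RingHom.ker β) : α z ∈ RingHom.ker p := by
  rw [RingHom.mem_ker] at hz ⊢
  rw [h.comm, hz, map_zero]

theorem mul_stable (x : B) (z : A) (hz : z ∈ RingHom.ker β) :
    ∃ w ∈ RingHom.ker β, α w = x * α z :=
  exists_preimage_of_mem_ker h hq (Ideal.mul_mem_left _ x (alpha_mem_ker h hz))

theorem map_ker : (RingHom.ker β).map α = RingHom.ker p := by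
  refine le_antisymm (Ideal.map_le_iff_le_comap.mpr fun z hz => alpha_mem_ker h hz) fun k hk => ?_
  obtain ⟨z, hz, rfl⟩ := exists_preimage_of_mem_ker h hq hk
  exact Ideal.mem_map_of_mem α hz

theorem mem_pow_iff {z : A} (n : ℕ) :
    z ∈ RingHom.ker β ^ (n + 1) ↔ α z ∈ RingHom.ker p ^ (n + 1) := by
  constructor
  · intro hz
    rw [← map_ker h hq, ← Ideal.map_pow]
    exact Ideal.mem_map_of_mem α hz
  · suffices ∀ k ∈ RingHom.ker p ^ (n + 1), ∃ z ∈ RingHom.ker β ^ (n + 1), α z = k by
      intro hz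
      obtain ⟨z', hz', he⟩ := this _ hz
      rwa [← alpha_injective h hq he]
    intro k hk
    induction n generalizing k with
    | zero => rw [pow_one] at hk ⊢; exact exists_preimage_of_mem_ker h hq hk
    | succ n ih =>
      rw [pow_succ'] at hk
      induction hk using Submodule.mul_induction_on' with
      | mem_mul_mem a ha b hb =>
        obtain ⟨z₁, hz₁, rfl⟩ := exists_preimage_of_mem_ker h hq ha
        obtain ⟨z₂, hz₂, rfl⟩ := ih b hb
        exact ⟨z₁ * z₂, by rw [pow_succ']; exact Ideal.mul_mem_mul hz₁ hz₂, map_mul _ _ _⟩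
      | add a _ b _ ha hb =>
        obtain ⟨z₁, hz₁, rfl⟩ := ha
        obtain ⟨z₂, hz₂, rfl⟩ := hb
        exact ⟨z₁ + z₂, add_mem hz₁ hz₂, map_add _ _ _⟩

/-- Flatness of the thickenings. -/
theorem flat_thickening {R : Type u} [CommRing R] (σ : R →+* A) (hC : (β.comp σ).Flat)
    (hK : ((Ideal.Quotient.mk (RingHom.ker p)).comp (α.comp σ)).Flat) (n : ℕ)
    (hKn : ((Ideal.Quotient.mk (RingHom.ker p ^ (n + 1))).comp (α.comp σ)).Flat) :
    ((Ideal.Quotient.mk (RingHom.ker β ^ (n + 1))).comp σ).Flat := by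
  letI := σ.toAlgebra
  letI : Algebra R B := (α.comp σ).toAlgebra
  letI : Algebra R C := (β.comp σ).toAlgebra
  haveI : Module.Flat R C := RingHom.flat_algebraMap_iff.mp hC
  haveI : Module.Flat R (B ⧸ RingHom.ker p) := RingHom.flat_algebraMap_iff.mp hK
  haveI : Module.Flat R (B ⧸ RingHom.ker p ^ (n + 1)) := RingHom.flat_algebraMap_iff.mp hKn
  let α' : A →ₐ[R] B := ⟨α, fun _ => rfl⟩
  let β' : A →ₐ[R] C := ⟨β, fun _ => rfl⟩
  have hle : RingHom.ker p ^ (n + 1) ≤ RingHom.ker p := Ideal.pow_le_self n.succ_ne_zero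
  let P : (B ⧸ RingHom.ker p ^ (n + 1)) →ₗ[R] B ⧸ RingHom.ker p :=
    (Ideal.Quotient.factorₐ R hle).toLinearMap
  have := CIntLib.flat_ker_of_surjective P (Ideal.Quotient.factor_surjective hle)
  let a : (A ⧸ RingHom.ker β ^ (n + 1)) →ₐ[R] B ⧸ RingHom.ker p ^ (n + 1) :=
    Ideal.Quotient.liftₐ _ ((Ideal.Quotient.mkₐ R _).comp α') fun z hz =>
      Ideal.Quotient.eq_zero_iff_mem.mpr ((mem_pow_iff h hq n).mp hz)
  have ha : Function.Injective a := (injective_iff_map_eq_zero a).mpr fun z hz => by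
    obtain ⟨z, rfl⟩ := Ideal.Quotient.mk_surjective z
    exact Ideal.Quotient.eq_zero_iff_mem.mpr
      ((mem_pow_iff h hq n).mpr (Ideal.Quotient.eq_zero_iff_mem.mp hz))
  let g : (A ⧸ RingHom.ker β ^ (n + 1)) →ₗ[R] C :=
    (Ideal.Quotient.liftₐ (RingHom.ker β ^ (n + 1)) β' fun z hz =>
      Ideal.pow_le_self n.succ_ne_zero hz).toLinearMap
  have hker : ∀ z, z ∈ LinearMap.ker g → a z ∈ LinearMap.ker P := fun z hz => by
    obtain ⟨z, rfl⟩ := Ideal.Quotient.mk_surjective z
    exact Ideal.Quotient.eq_zero_iff_mem.mpr (alpha_mem_ker h hz)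
  let u : LinearMap.ker g →ₗ[R] LinearMap.ker P := a.toLinearMap.restrict hker
  have hu : Function.Bijective u := by
    refine ⟨fun x y hxy => Subtype.ext (ha (congrArg Subtype.val hxy)), fun ⟨y, hy⟩ => ?_⟩
    obtain ⟨y, rfl⟩ := Ideal.Quotient.mk_surjective y
    obtain ⟨z, hz, rfl⟩ := exists_preimage_of_mem_ker h hq (Ideal.Quotient.eq_zero_iff_mem.mp hy)
    exact ⟨⟨Ideal.Quotient.mk _ z, hz⟩, rfl⟩
  haveI : Module.Flat R (LinearMap.ker g) := Module.Flat.of_linearEquiv (LinearEquiv.ofBijective u hu)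
  have hg : Function.Surjective g := fun c => by
    obtain ⟨z, hz⟩ := h.beta_surjective c
    exact ⟨Ideal.Quotient.mk _ z, hz⟩
  have : Module.Flat R (A ⧸ RingHom.ker β ^ (n + 1)) :=
    GrFlat5.flat_of_exact (LinearMap.ker g).injective_subtype (LinearMap.exact_subtype_ker_map g) hg
  exact RingHom.flat_algebraMap_iff.mpr this

end Groth.Agent.ZBPushBlow
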